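import Groth.Agent.Lib.InvRing16.Local
import Groth.Agent.Lib.FormalModH7.EqFlat

/-! Flatness over the inverse image of the structure sheaf gives a flat morphism. -/

set_option autoImplicit false
set_option linter.style.haveILetI false
set_option linter.unusedSectionVars false
set_option backward.isDefEq.respectTransparency false
set_option backward.isDefEq.respectTransparency.types false

universe u

open CategoryTheory CategoryTheory.Limits Opposite

noncomputable section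

namespace Groth.Agent.InvRing16

open Groth.Agent.ModFlat16 Groth.Agent.FormalModH7

variable {C D : Type u} [SmallCategory C] [SmallCategory D] {J : GrothendieckTopology C}
  {K : GrothendieckTopology D} {O_C : Sheaf J CommRingCat.{u}} {O_D : Sheaf K CommRingCat.{u}}
  {f : ModSite.RMor O_C O_D}

theorem locally_zero_family {U : C} {V : D} (u : U ⟶ f.fn.obj V) {ι : Type*} [Finite ι]
    (c : ι → O_D.obj.obj (op V)) (h : ∀ i, ub u (c i) = 0) :
    ∃ S ∈ J U, ∀ ⦃W : C⦄ (k : W ⟶ U), S k → ∃ (V₁ : D) (g : V₁ ⟶ V) (u₁ : W ⟶ f.fn.obj V₁),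
      u₁ ≫ f.fn.map g = k ≫ u ∧ ∀ i, rmap O_D g (c i) = 0 := by
  classical
  cases nonempty_fintype ι
  suffices H : ∀ s : Finset ι, ∃ S ∈ J U, ∀ ⦃W : C⦄ (k : W ⟶ U), S k → ∃ (V₁ : D) (g : V₁ ⟶ V)
      (u₁ : W ⟶ f.fn.obj V₁), u₁ ≫ f.fn.map g = k ≫ u ∧ ∀ i ∈ s, rmap O_D g (c i) = 0 by
    obtain ⟨S, hS, h⟩ := H Finset.univ
    refine ⟨S, hS, fun W k hk => ?_⟩
    obtain ⟨V₁, g, u₁, e, hc⟩ := h k hk
    exact ⟨V₁, g, u₁, e, fun i => hc i (Finset.mem_univ i)⟩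
  intro s
  induction s using Finset.induction_on with
  | empty => exact ⟨⊤, J.top_mem U, fun W k _ => ⟨V, 𝟙 V, k ≫ u, by simp, fun i hi => absurd hi (Finset.notMem_empty i)⟩⟩
  | @insert j s hj ih =>
    obtain ⟨S, hS, hS'⟩ := ih
    refine bind_cover S hS fun W k hk => ?_
    obtain ⟨V₁, g, u₁, e, hc⟩ := hS' k hk
    obtain ⟨T, hT, hT'⟩ := locally_zero u₁ (rmap O_D g (c j)) (by rw [ub_rmap, e, ← rmap_ub, h, map_zero])
    refine ⟨T, hT, fun W' k' hk' => ?_⟩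
    obtain ⟨V₂, g', u₂, e', hc'⟩ := hT' k' hk'
    refine ⟨V₂, g' ≫ g, u₂, by rw [Functor.map_comp, reassoc_of% e', e, Category.assoc], fun i hi => ?_⟩
    rw [rmap_comp]
    rcases Finset.mem_insert.1 hi with rfl | hi
    · exact hc'
    · rw [hc i hi, map_zero]

theorem smul_baseMod {U : C} (r : f.invRing.obj.obj (op U)) (m : ModSite.sect f.baseMod U) :
    (r • m : ModSite.sect f.baseMod U) =
      ((f.invSharp.hom.app (op U) r * (show O_C.obj.obj (op U) from m) : O_C.obj.obj (op U))) := rfl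

/-- If the structure sheaf is flat over the pulled back one, the morphism satisfies the equational condition. -/
theorem eqFlat_of_isFlat_baseMod (hf : ModSite.IsFlat f.baseMod) : EqFlat f := by
  intro W V₀ u₀ l n a hrel
  classical
  let a' : Fin l → f.invRing.obj.obj (op W) := fun i => ub u₀ (a i)
  have h0 : ∑ i, a' i • (show ModSite.sect f.baseMod W from n i) = 0 := by
    refine Eq.trans (Finset.sum_congr rfl fun i _ => smul_baseMod (a' i) _) ?_
    refine Eq.trans (Finset.sum_congr rfl fun i _ => ?_) hrel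
    rw [invSharp_ub]
    exact mul_comm (rho f u₀ (a i)) (n i)
  obtain ⟨S, hS, hS'⟩ := relTriv_of_isFlat hf W l a' _ h0
  refine bind_cover S hS fun W₁ k₁ hk₁ => ?_
  obtain ⟨r, t, b, hnt, hb⟩ := hS' k₁ hk₁
  obtain ⟨S₂, hS₂, hS₂'⟩ := locally_ub (fun p : Fin l × Fin r => b p.1 p.2)
  refine bind_cover S₂ hS₂ fun W₂ k₂ hk₂ => ?_
  obtain ⟨V, u, c, hc⟩ := hS₂' k₂ hk₂
  obtain ⟨S₃, hS₃, hS₃'⟩ := locally_span f u (k₂ ≫ k₁ ≫ u₀)
  refine bind_cover S₃ hS₃ fun W₃ k₃ hk₃ => ?_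
  obtain ⟨V₃, g₁, g₂, u₃, e₁, e₂⟩ := hS₃' k₃ hk₃
  have hub : ∀ i q, rmap f.invRing (k₃ ≫ k₂) (b i q) = ub u₃ (rmap O_D g₁ (c (i, q))) := fun i q => by
    rw [ub_rmap, e₁, ← rmap_ub, rmap_comp]
    exact congrArg _ (hc (i, q))
  have hsum : ∀ q, ub u₃ (∑ i, rmap O_D g₁ (c (i, q)) * rmap O_D g₂ (a i)) = 0 := fun q => by
    refine Eq.trans ?_ ((congrArg (rmap f.invRing (k₃ ≫ k₂)) (hb q)).trans (map_zero _))
    rw [map_sum, map_sum]
    refine Finset.sum_congr rfl fun i _ => ?_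
    rw [map_mul, map_mul, ← hub, ub_rmap, e₂]
    refine congrArg (_ * ·) ?_
    show _ = rmap f.invRing (k₃ ≫ k₂) (rmap f.invRing k₁ (a' i))
    rw [← rmap_comp, rmap_ub, Category.assoc, Category.assoc]
  obtain ⟨S₄, hS₄, hS₄'⟩ := locally_zero_family u₃ _ hsum
  refine ⟨S₄, hS₄, fun W₄ k₄ hk₄ => ?_⟩
  obtain ⟨V₁, g, u₁, eg, hg⟩ := hS₄' k₄ hk₄
  refine ⟨V₁, g ≫ g₂, u₁, r, fun i q => rmap O_D g (rmap O_D g₁ (c (i, q))),
    fun q => rmap O_C ((k₄ ≫ k₃) ≫ k₂) (t q), ?_, fun i => ?_, fun q => ?_⟩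
  · rw [Functor.map_comp, reassoc_of% eg, e₂]
    simp only [Category.assoc]
  · rw [rmap_comp k₁ ((k₄ ≫ k₃) ≫ k₂) (n i)]
    have hn : rmap O_C k₁ (n i) = ∑ q, f.invSharp.hom.app (op W₁) (b i q) * (show O_C.obj.obj (op W₁) from t q) :=
      (hnt i).trans (Finset.sum_congr rfl fun q _ => smul_baseMod _ _)
    rw [hn, map_sum]
    refine Finset.sum_congr rfl fun q _ => ?_
    rw [map_mul]
    refine congrArg (· * _) ?_
    refine (NatTrans.naturality_apply f.invSharp.hom ((k₄ ≫ k₃) ≫ k₂).op (b i q)).symm.trans ?_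
    show f.invSharp.hom.app (op W₄) (rmap f.invRing ((k₄ ≫ k₃) ≫ k₂) (b i q)) = _
    rw [Category.assoc, rmap_comp (k₃ ≫ k₂) k₄, hub, rmap_ub, invSharp_ub, rho_rmap f g u₁, eg]
  · refine Eq.trans ?_ (hg q)
    rw [map_sum]
    refine Finset.sum_congr rfl fun i _ => ?_
    rw [map_mul, rmap_comp]

end Groth.Agent.InvRing16
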