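import Groth.Agent.Lib.InvRing16.Pres
import Groth.Agent.Lib.ModFlat16.LocFT

/-! Local description of the sections of the inverse image of a sheaf of rings. -/

set_option autoImplicit false
set_option linter.style.haveILetI false
set_option linter.unusedSectionVars false
set_option backward.isDefEq.respectTransparency false
set_option backward.isDefEq.respectTransparency.types false

universe u

open CategoryTheory CategoryTheory.Limits Opposite

noncomputable section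

namespace Groth.Agent.InvRing16

open Groth.Agent.ModFlat16

variable {C D : Type u} [SmallCategory C] [SmallCategory D] {J : GrothendieckTopology C}
  {K : GrothendieckTopology D} {O_C : Sheaf J CommRingCat.{u}} {O_D : Sheaf K CommRingCat.{u}}
  {f : ModSite.RMor O_C O_D}

/-- The section is pulled back from below, locally. -/
def LocUb (f : ModSite.RMor O_C O_D) {U : C} (x : f.invRing.obj.obj (op U)) : Prop :=
  ∃ S ∈ J U, ∀ ⦃W : C⦄ (k : W ⟶ U), S k →
    ∃ (V : D) (u : W ⟶ f.fn.obj V) (c : O_D.obj.obj (op V)), rmap f.invRing k x = ub u c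

theorem locUb_ub {U : C} {V : D} (u : U ⟶ f.fn.obj V) (c : O_D.obj.obj (op V)) : LocUb f (ub u c) :=
  ⟨⊤, J.top_mem U, fun _ k _ => ⟨V, k ≫ u, c, rmap_ub k u c⟩⟩

theorem LocUb.op₂ {U : C} {x y : f.invRing.obj.obj (op U)} (hx : LocUb f x) (hy : LocUb f y)
    (F : ∀ (R : Type u) [CommRing R], R → R → R)
    (hF : ∀ {R R' : Type u} [CommRing R] [CommRing R'] (φ : R →+* R') (a b : R), φ (F R a b) = F R' (φ a) (φ b)) :
    LocUb f (F _ x y) := by
  obtain ⟨S, hS, hS'⟩ := hx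
  obtain ⟨S₂, hS₂, hS₂'⟩ := hy
  refine bind_cover (S ⊓ S₂) (J.intersection_covering hS hS₂) fun W k hk => ?_
  obtain ⟨V, u, c, hc⟩ := hS' k hk.1
  obtain ⟨V₂, u₂, c₂, hc₂⟩ := hS₂' k hk.2
  obtain ⟨T, hT, hT'⟩ := locally_span f u u₂
  refine ⟨T, hT, fun W' k' hk' => ?_⟩
  obtain ⟨V₃, g₁, g₂, u₃, e₁, e₂⟩ := hT' k' hk'
  refine ⟨V₃, u₃, F _ (rmap O_D g₁ c) (rmap O_D g₂ c₂), ?_⟩
  rw [hF, hF, ub_rmap, ub_rmap, e₁, e₂, ← rmap_ub, ← rmap_ub, ← hc, ← hc₂, rmap_comp, rmap_comp]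

theorem locUb_evalU {U : C} (p : Poly f U) : LocUb f (evalU f U p) := by
  induction p using MvPolynomial.induction_on with
  | C a =>
    obtain ⟨S, hS, hS'⟩ := locally_over f U
    refine ⟨S, hS, fun W k hk => ?_⟩
    obtain ⟨V, ⟨u⟩⟩ := hS' k hk
    exact ⟨V, u, (a : O_D.obj.obj (op V)), by simp [evalU]⟩
  | add p q hp hq =>
    rw [map_add]
    exact hp.op₂ hq (fun R _ a b => a + b) (fun φ a b => map_add φ a b)
  | mul_X p s hp =>
    rw [map_mul]
    obtain ⟨V, u, c⟩ := s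
    rw [evalU_var]
    exact hp.op₂ (locUb_ub u c) (fun R _ a b => a * b) (fun φ a b => map_mul φ a b)

/-- Sections of the inverse image come from below, locally. -/
theorem locUb {U : C} (x : f.invRing.obj.obj (op U)) : LocUb f x := by
  haveI : Presheaf.IsLocallySurjective J (η f) := inferInstance
  let z := (toR f).hom.app (op U) x
  refine bind_cover (Presheaf.imageSieve (η f) z) (Presheaf.imageSieve_mem J (η f) z) fun W k hk => ?_
  obtain ⟨t, ht⟩ := hk
  obtain ⟨p, rfl⟩ := Ideal.Quotient.mk_surjective t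
  obtain ⟨T, hT, hT'⟩ := locUb_evalU p
  refine ⟨T, hT, fun W' k' hk' => ?_⟩
  obtain ⟨V, u, c, hc⟩ := hT' k' hk'
  refine ⟨V, u, c, ?_⟩
  rw [rmap_comp, ← hc]
  refine congrArg (rmap f.invRing k') ?_
  have h := congrArg (fun w => (fromR f).hom.app (op W) w) ht
  rw [fromR_η] at h
  refine (Eq.trans ?_ h.symm)
  show f.invRing.obj.map k.op x = (fromR f).hom.app (op W) ((R f).obj.map k.op ((toR f).hom.app (op U) x))
  rw [← NatTrans.naturality_apply, fromR_toR_apply]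

/-- The encoding of a relation of rings as a relation of the structure module. -/
def toRel {U : C} : RRel f U → Rel f (ModSite.unit O_D) U
  | .add V u c c' => .add V u c c'
  | .mul V u c c' => .add V u c c'
  | .one V u => .add V u (0 : O_D.obj.obj (op V)) (0 : O_D.obj.obj (op V))
  | .res V V' g u c => .res V V' g u c

theorem eval_rval {U : C} [DecidableEq (Node f U)] {V₀ : D} (g : ∀ x : Node f U, Option (V₀ ⟶ x.1))
    (e : Poly f U →+* O_D.obj.obj (op V₀))
    (he : ∀ {V : D} (u : U ⟶ f.fn.obj V) (c : O_D.obj.obj (op V)) (a : V₀ ⟶ V), g ⟨V, u⟩ = some a →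
      e (var u c) = rmap O_D a c)
    (r : RRel f U) (hs : ∀ x ∈ relNodes (toRel r), (g x).isSome) (hr : RelOK g (toRel r)) :
    e (rval r) = 0 := by
  have hn : ∀ x ∈ relNodes (toRel r), ∃ a, g x = some a := fun x hx => Option.isSome_iff_exists.1 (hs x hx)
  cases r with
  | add V u c c' =>
    obtain ⟨a, ha⟩ := hn ⟨V, u⟩ (by simp [toRel, relNodes])
    simp only [rval, map_sub, he u _ a ha, map_add]; abel
  | mul V u c c' =>
    obtain ⟨a, ha⟩ := hn ⟨V, u⟩ (by simp [toRel, relNodes])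
    simp only [rval, map_sub, map_mul, he u _ a ha, sub_self]
  | one V u =>
    obtain ⟨a, ha⟩ := hn ⟨V, u⟩ (by simp [toRel, relNodes])
    simp only [rval, map_sub, map_one, he u _ a ha, sub_self]
  | res V V' h u c =>
    obtain ⟨a, ha⟩ := hn ⟨V', u⟩ (by simp [toRel, relNodes])
    obtain ⟨b, hb⟩ := hn ⟨V, u ≫ f.fn.map h⟩ (by simp [toRel, relNodes])
    simp only [rval, map_sub, he u _ a ha, he _ _ b hb]
    rw [← rmap_comp, hr a b ha hb, sub_self]

/-- A section from below which vanishes upstairs vanishes below, locally. -/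
theorem locally_zero {U : C} {V : D} (u : U ⟶ f.fn.obj V) (c : O_D.obj.obj (op V)) (h : ub u c = 0) :
    ∃ S ∈ J U, ∀ ⦃W : C⦄ (k : W ⟶ U), S k → ∃ (V₁ : D) (g : V₁ ⟶ V) (u₁ : W ⟶ f.fn.obj V₁),
      u₁ ≫ f.fn.map g = k ≫ u ∧ rmap O_D g c = 0 := by
  classical
  haveI : Presheaf.IsLocallyInjective J (η f) := inferInstance
  have h0 : (η f).app (op U) (sy u c) = (η f).app (op U) 0 := by
    rw [← toR_ub, h, map_zero, map_zero]
  refine bind_cover (Presheaf.equalizerSieve (F := T f) (X := op U) (sy u c) 0)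
    (Presheaf.equalizerSieve_mem J (η f) _ _ h0) fun W k hk => ?_
  have hz : mkT f W (var (k ≫ u) c) = 0 := ((map_sy k u c).symm.trans hk).trans (map_zero ((T f).map k.op).hom)
  obtain ⟨n, a, r, hsum⟩ := Submodule.mem_span_set'.1
    (show var (k ≫ u) c ∈ Submodule.span (Poly f W) (Set.range (rval (f := f) (U := W))) from
      Ideal.Quotient.eq_zero_iff_mem.1 hz)
  choose r' hr' using fun i => (r i).2
  let E : Finset (Rel f (ModSite.unit O_D) W) := Finset.univ.image fun i => toRel (r' i)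
  let N : Finset (Node f W) := insert ⟨V, k ≫ u⟩ (Finset.univ.biUnion fun i => relNodes (toRel (r' i)))
  obtain ⟨T₀, hT₀, hT₀'⟩ := refined_rels N E
  refine ⟨T₀, hT₀, fun W' k' hk' => ?_⟩
  obtain ⟨V₀, u₀, g, hsome, hg, hE⟩ := hT₀' k' hk'
  let mv : Sy f W → O_D.obj.obj (op V₀) := fun s =>
    if h : (g ⟨s.1, s.2.1⟩).isSome then rmap O_D ((g ⟨s.1, s.2.1⟩).get h) s.2.2 else 0
  let e : Poly f W →+* O_D.obj.obj (op V₀) := MvPolynomial.eval₂Hom (Int.castRingHom _) mv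
  have he : ∀ {V : D} (u : W ⟶ f.fn.obj V) (c : O_D.obj.obj (op V)) (a : V₀ ⟶ V), g ⟨V, u⟩ = some a →
      e (var u c) = rmap O_D a c := fun {V} u c a ha => by
    simp [e, var, mv, ha]
  obtain ⟨a₀, ha₀⟩ := Option.isSome_iff_exists.1 (hsome ⟨V, k ≫ u⟩ (Finset.mem_insert_self _ _))
  refine ⟨V₀, a₀, u₀, (hg _ a₀ ha₀).trans (Category.assoc _ _ _).symm, ?_⟩
  rw [← he (k ≫ u) c a₀ ha₀, ← hsum, map_sum]
  refine Finset.sum_eq_zero fun i _ => ?_
  rw [smul_eq_mul, map_mul, ← hr' i, eval_rval g e he (r' i)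
    (fun x hx => hsome x (Finset.mem_insert_of_mem (Finset.mem_biUnion.2 ⟨i, Finset.mem_univ i, hx⟩)))
    (hE _ (Finset.mem_image_of_mem _ (Finset.mem_univ i))), mul_zero]

theorem locally_eq {U : C} {V : D} (u : U ⟶ f.fn.obj V) (c c' : O_D.obj.obj (op V)) (h : ub u c = ub u c') :
    ∃ S ∈ J U, ∀ ⦃W : C⦄ (k : W ⟶ U), S k → ∃ (V₁ : D) (g : V₁ ⟶ V) (u₁ : W ⟶ f.fn.obj V₁),
      u₁ ≫ f.fn.map g = k ≫ u ∧ rmap O_D g c = rmap O_D g c' := by
  obtain ⟨S, hS, hS'⟩ := locally_zero u (c - c') (by rw [map_sub, h, sub_self])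
  refine ⟨S, hS, fun W k hk => ?_⟩
  obtain ⟨V₁, g, u₁, e, hz⟩ := hS' k hk
  exact ⟨V₁, g, u₁, e, sub_eq_zero.1 ((map_sub _ _ _).symm.trans hz)⟩

/-- Finitely many sections come from below simultaneously, locally. -/
theorem locally_ub {U : C} {ι : Type*} [Finite ι] (x : ι → f.invRing.obj.obj (op U)) :
    ∃ S ∈ J U, ∀ ⦃W : C⦄ (k : W ⟶ U), S k → ∃ (V : D) (u : W ⟶ f.fn.obj V) (c : ι → O_D.obj.obj (op V)),
      ∀ i, rmap f.invRing k (x i) = ub u (c i) := by
  classical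
  cases nonempty_fintype ι
  suffices H : ∀ s : Finset ι, ∃ S ∈ J U, ∀ ⦃W : C⦄ (k : W ⟶ U), S k →
      ∃ (V : D) (u : W ⟶ f.fn.obj V) (c : ι → O_D.obj.obj (op V)), ∀ i ∈ s, rmap f.invRing k (x i) = ub u (c i) by
    obtain ⟨S, hS, h⟩ := H Finset.univ
    exact ⟨S, hS, fun W k hk => (h k hk).imp fun V h => h.imp fun u h => h.imp fun c h i => h i (Finset.mem_univ i)⟩
  intro s
  induction s using Finset.induction_on with
  | empty =>
    obtain ⟨S, hS, h⟩ := locally_over f U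
    refine ⟨S, hS, fun W k hk => ?_⟩
    obtain ⟨V, ⟨u⟩⟩ := h k hk
    exact ⟨V, u, fun _ => 0, fun i hi => absurd hi (Finset.notMem_empty i)⟩
  | @insert j s hj ih =>
    obtain ⟨S, hS, h⟩ := ih
    obtain ⟨S₂, hS₂, h₂⟩ := locUb (x j)
    refine bind_cover (S ⊓ S₂) (J.intersection_covering hS hS₂) fun W k hk => ?_
    obtain ⟨V, u, c, hc⟩ := h k hk.1
    obtain ⟨V₂, u₂, c₂, hc₂⟩ := h₂ k hk.2
    obtain ⟨T, hT, hT'⟩ := locally_span f u u₂
    refine ⟨T, hT, fun W' k' hk' => ?_⟩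
    obtain ⟨V₃, g₁, g₂, u₃, e₁, e₂⟩ := hT' k' hk'
    refine ⟨V₃, u₃, Function.update (fun i => rmap O_D g₁ (c i)) j (rmap O_D g₂ c₂), fun i hi => ?_⟩
    rw [rmap_comp]
    by_cases hij : i = j
    · subst hij; rw [Function.update_self, ub_rmap, e₂, ← rmap_ub, hc₂]
    · rw [Function.update_of_ne hij, ub_rmap, e₁, ← rmap_ub, hc i ((Finset.mem_insert.1 hi).resolve_left hij)]

end Groth.Agent.InvRing16
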