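import Groth.Agent.Lib.ModFlat16.PullFlat
import Groth.Prelude.Def_ModSite2
import Mathlib.RingTheory.MvPolynomial.Basic
import Mathlib.Algebra.MvPolynomial.Eval
import Mathlib.RingTheory.Ideal.Quotient.Operations

/-! An explicit presentation of the inverse image of a sheaf of rings. -/

set_option autoImplicit false
set_option linter.style.haveILetI false
set_option linter.unusedSectionVars false
set_option backward.isDefEq.respectTransparency false
set_option backward.isDefEq.respectTransparency.types false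

universe u

open CategoryTheory CategoryTheory.Limits Opposite

noncomputable section

namespace Groth.Agent.InvRing16

open Groth.Agent.ModFlat16 MvPolynomial

variable {C D : Type u} [SmallCategory C] [SmallCategory D] {J : GrothendieckTopology C}
  {K : GrothendieckTopology D} {O_C : Sheaf J CommRingCat.{u}} {O_D : Sheaf K CommRingCat.{u}}
  (f : ModSite.RMor O_C O_D)

/-- Ring symbols over an object. -/
abbrev Sy (U : C) : Type u := Σ V : D, (U ⟶ f.fn.obj V) × O_D.obj.obj (op V)

/-- Polynomials in the symbols. -/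
abbrev Poly (U : C) : Type u := MvPolynomial (Sy f U) ℤ

variable {f}

/-- A symbol as a polynomial. -/
abbrev var {U : C} {V : D} (u : U ⟶ f.fn.obj V) (c : O_D.obj.obj (op V)) : Poly f U :=
  MvPolynomial.X (⟨V, u, c⟩ : Sy f U)

variable (f)

/-- Relations between ring symbols. -/
inductive RRel (U : C) : Type u
  | add (V : D) (u : U ⟶ f.fn.obj V) (c c' : O_D.obj.obj (op V))
  | mul (V : D) (u : U ⟶ f.fn.obj V) (c c' : O_D.obj.obj (op V))
  | one (V : D) (u : U ⟶ f.fn.obj V)
  | res (V V' : D) (g : V' ⟶ V) (u : U ⟶ f.fn.obj V') (c : O_D.obj.obj (op V))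

variable {f}

/-- The value of a relation. -/
def rval {U : C} : RRel f U → Poly f U
  | .add _ u c c' => var u (c + c') - var u c - var u c'
  | .mul _ u c c' => var u (c * c') - var u c * var u c'
  | .one _ u => var u 1 - 1
  | .res _ _ g u c => var u (rmap O_D g c) - var (u ≫ f.fn.map g) c

variable (f)

/-- The ideal of relations. -/
def Idl (U : C) : Ideal (Poly f U) := Ideal.span (Set.range (rval (f := f) (U := U)))

/-- Renaming along an arrow. -/
def ren {U W : C} (k : W ⟶ U) : Poly f U →+* Poly f W :=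
  (MvPolynomial.rename fun s : Sy f U => (⟨s.1, k ≫ s.2.1, s.2.2⟩ : Sy f W)).toRingHom

theorem ren_var {U W : C} (k : W ⟶ U) {V : D} (u : U ⟶ f.fn.obj V) (c : O_D.obj.obj (op V)) :
    ren f k (var u c) = var (k ≫ u) c := MvPolynomial.rename_X _ _

theorem ren_idl {U W : C} (k : W ⟶ U) : Idl f U ≤ (Idl f W).comap (ren f k) := by
  rw [Idl, Ideal.span_le]
  rintro _ ⟨r, rfl⟩
  show ren f k (rval r) ∈ Idl f W
  cases r with
  | add V u c c' => exact Ideal.subset_span ⟨.add V (k ≫ u) c c', by simp only [rval, map_sub, ren_var]⟩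
  | mul V u c c' => exact Ideal.subset_span ⟨.mul V (k ≫ u) c c', by simp only [rval, map_sub, map_mul, ren_var]⟩
  | one V u => exact Ideal.subset_span ⟨.one V (k ≫ u), by simp only [rval, map_sub, map_one, ren_var]⟩
  | res V V' g u c =>
    exact Ideal.subset_span ⟨.res V V' g (k ≫ u) c, by simp only [rval, map_sub, ren_var, Category.assoc]⟩

/-- The class of a polynomial. -/
abbrev mkT (U : C) : Poly f U →+* Poly f U ⧸ Idl f U := Ideal.Quotient.mk (Idl f U)

/-- The presheaf of rings presented by symbols. -/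
def T : Cᵒᵖ ⥤ CommRingCat.{u} where
  obj U := CommRingCat.of (Poly f U.unop ⧸ Idl f U.unop)
  map {U W} k := CommRingCat.ofHom (Ideal.quotientMap (Idl f W.unop) (ren f k.unop) (ren_idl f k.unop))
  map_id U := by
    refine CommRingCat.hom_ext (Ideal.Quotient.ringHom_ext (MvPolynomial.ringHom_ext (fun _ => by simp) fun s => ?_))
    obtain ⟨V, u, c⟩ := s
    show Ideal.quotientMap _ _ (ren_idl f (𝟙 U.unop)) (mkT f U.unop (var u c)) = mkT f U.unop (var u c)
    rw [Ideal.quotientMap_mk, ren_var, Category.id_comp]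
  map_comp {U W W'} k k' := by
    refine CommRingCat.hom_ext (Ideal.Quotient.ringHom_ext (MvPolynomial.ringHom_ext (fun _ => by simp) fun s => ?_))
    obtain ⟨V, u, c⟩ := s
    show Ideal.quotientMap _ _ (ren_idl f (k'.unop ≫ k.unop)) (mkT f U.unop (var u c)) =
      Ideal.quotientMap _ _ (ren_idl f k'.unop) (Ideal.quotientMap _ _ (ren_idl f k.unop) (mkT f U.unop (var u c)))
    rw [Ideal.quotientMap_mk, Ideal.quotientMap_mk, Ideal.quotientMap_mk, ren_var, ren_var, ren_var,
      Category.assoc]

variable {f}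

/-- The class of a symbol. -/
def sy {U : C} {V : D} (u : U ⟶ f.fn.obj V) (c : O_D.obj.obj (op V)) : (T f).obj (op U) := mkT f U (var u c)

theorem map_sy {U W : C} (k : W ⟶ U) {V : D} (u : U ⟶ f.fn.obj V) (c : O_D.obj.obj (op V)) :
    (T f).map k.op (sy u c) = sy (k ≫ u) c :=
  (Ideal.quotientMap_mk (H := ren_idl f k) (x := var u c)).trans (congrArg (mkT f W) (ren_var f k u c))

theorem sy_rel {U : C} (r : RRel f U) : mkT f U (rval r) = 0 :=
  Ideal.Quotient.eq_zero_iff_mem.2 (Ideal.subset_span ⟨r, rfl⟩)

/-- Symbols at an object form a ring map. -/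
def syHom {U : C} {V : D} (u : U ⟶ f.fn.obj V) : O_D.obj.obj (op V) →+* (T f).obj (op U) :=
  RingHom.mk' { toFun := fun c => sy u c
                map_one' := sub_eq_zero.1 ((map_sub (mkT f U) _ _).symm.trans (sy_rel (.one V u)))
                map_mul' := fun c c' => by
                  refine sub_eq_zero.1 (Eq.trans ?_ (sy_rel (.mul V u c c')))
                  simp only [rval, map_sub, map_mul]; rfl }
    fun c c' => by
      refine sub_eq_zero.1 (Eq.trans ?_ (sy_rel (.add V u c c')))
      simp only [rval, map_sub]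
      exact (sub_sub _ _ _).symm

theorem sy_res {U : C} {V V' : D} (g : V' ⟶ V) (u : U ⟶ f.fn.obj V') (c : O_D.obj.obj (op V)) :
    sy u (rmap O_D g c) = sy (u ≫ f.fn.map g) c :=
  sub_eq_zero.1 ((map_sub (mkT f U) _ _).symm.trans (sy_rel (.res V V' g u c)))

variable (f)

/-- The sheaf of rings presented by symbols. -/
abbrev R : Sheaf J CommRingCat.{u} := (presheafToSheaf J CommRingCat.{u}).obj (T f)

/-- The map to the sheafification. -/
abbrev η : T f ⟶ (R f).obj := toSheafify J (T f)

/-- The structure map. -/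
def ι : O_D ⟶ (f.fn.sheafPushforwardContinuous CommRingCat.{u} K J).obj (R f) :=
  ⟨{ app := fun V => CommRingCat.ofHom (((η f).app (op (f.fn.obj V.unop))).hom.comp (syHom (𝟙 _)))
     naturality := fun V V' g => by
      ext c
      show (η f).app (op (f.fn.obj V'.unop)) (sy (𝟙 _) (rmap O_D g.unop c)) =
        (R f).obj.map (f.fn.map g.unop).op ((η f).app (op (f.fn.obj V.unop)) (sy (𝟙 _) c))
      rw [← NatTrans.naturality_apply, map_sy, sy_res, Category.id_comp, Category.comp_id] }⟩

/-- The comparison with the inverse image. -/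
def toR : f.invRing ⟶ R f := ((f.fn.sheafAdjunctionContinuous CommRingCat.{u} K J).homEquiv O_D (R f)).symm (ι f)

variable {f}

/-- The inverse image of a section, along an arrow. -/
def ub {U : C} {V : D} (u : U ⟶ f.fn.obj V) : O_D.obj.obj (op V) →+* f.invRing.obj.obj (op U) :=
  (rmap f.invRing u).comp (((f.fn.sheafAdjunctionContinuous CommRingCat.{u} K J).unit.app O_D).hom.app (op V)).hom

theorem rmap_ub {U W : C} (k : W ⟶ U) {V : D} (u : U ⟶ f.fn.obj V) (c : O_D.obj.obj (op V)) :
    rmap f.invRing k (ub u c) = ub (k ≫ u) c := (rmap_comp (O := f.invRing) u k _).symm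

theorem ub_rmap {U : C} {V V' : D} (g : V' ⟶ V) (u : U ⟶ f.fn.obj V') (c : O_D.obj.obj (op V)) :
    ub u (rmap O_D g c) = ub (u ≫ f.fn.map g) c := by
  show rmap f.invRing u _ = rmap f.invRing (u ≫ f.fn.map g) _
  rw [rmap_comp]
  exact congrArg (rmap f.invRing u)
    (ConcreteCategory.congr_hom (((f.fn.sheafAdjunctionContinuous CommRingCat.{u} K J).unit.app O_D).hom.naturality g.op) c)

theorem invSharp_ub {U : C} {V : D} (u : U ⟶ f.fn.obj V) (c : O_D.obj.obj (op V)) :
    f.invSharp.hom.app (op U) (ub u c) = rho f u c := by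
  refine (NatTrans.naturality_apply f.invSharp.hom u.op _).trans (congrArg (rmap O_C u) ?_)
  have h := (f.fn.sheafAdjunctionContinuous CommRingCat.{u} K J).homEquiv_unit (f := f.invSharp)
  rw [ModSite.RMor.invSharp, Equiv.apply_symm_apply] at h
  exact (congrArg (fun q : O_D ⟶ _ => q.hom.app (op V) c) h).symm

theorem toR_ub {U : C} {V : D} (u : U ⟶ f.fn.obj V) (c : O_D.obj.obj (op V)) :
    (toR f).hom.app (op U) (ub u c) = (η f).app (op U) (sy u c) := by
  have h := (f.fn.sheafAdjunctionContinuous CommRingCat.{u} K J).homEquiv_unit (f := toR f)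
  rw [toR, Equiv.apply_symm_apply] at h
  refine (NatTrans.naturality_apply (toR f).hom u.op _).trans ?_
  refine Eq.trans (congrArg (fun z => (R f).obj.map u.op z)
    (congrArg (fun q : O_D ⟶ _ => q.hom.app (op V) c) h).symm) ?_
  show (R f).obj.map u.op ((η f).app (op (f.fn.obj V)) (sy (𝟙 _) c)) = _
  rw [← NatTrans.naturality_apply, map_sy, Category.comp_id]

variable (f)

/-- Evaluation of polynomials in the inverse image. -/
def evalU (U : C) : Poly f U →+* f.invRing.obj.obj (op U) :=
  MvPolynomial.eval₂Hom (Int.castRingHom _) fun s => ub s.2.1 s.2.2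

theorem evalU_var {U : C} {V : D} (u : U ⟶ f.fn.obj V) (c : O_D.obj.obj (op V)) :
    evalU f U (var u c) = ub u c := MvPolynomial.eval₂Hom_X' _ _ _

theorem evalU_idl (U : C) : ∀ p ∈ Idl f U, evalU f U p = 0 := by
  intro p hp
  refine (Ideal.span_le.2 ?_ : Idl f U ≤ RingHom.ker (evalU f U)) hp
  rintro _ ⟨r, rfl⟩
  show evalU f U (rval r) = 0
  cases r with
  | add V u c c' => simp only [rval, map_sub, evalU_var, map_add]; abel
  | mul V u c c' => simp only [rval, map_sub, map_mul, evalU_var, sub_self]
  | one V u => simp only [rval, map_sub, map_one, evalU_var, sub_self]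
  | res V V' g u c => simp only [rval, map_sub, evalU_var, ub_rmap, sub_self]

/-- The map from the presented presheaf. -/
def fromT : T f ⟶ f.invRing.obj where
  app U := CommRingCat.ofHom (Ideal.Quotient.lift (Idl f U.unop) (evalU f U.unop) (evalU_idl f U.unop))
  naturality {U W} k := by
    refine CommRingCat.hom_ext (Ideal.Quotient.ringHom_ext (MvPolynomial.ringHom_ext (fun _ => by simp) fun s => ?_))
    obtain ⟨V, u, c⟩ := s
    show Ideal.Quotient.lift (Idl f W.unop) (evalU f W.unop) (evalU_idl f W.unop) ((T f).map k.unop.op (sy u c)) =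
      rmap f.invRing k.unop (Ideal.Quotient.lift (Idl f U.unop) (evalU f U.unop) (evalU_idl f U.unop) (mkT f U.unop (var u c)))
    rw [map_sy]
    show evalU f W.unop (var (k.unop ≫ u) c) = rmap f.invRing k.unop (evalU f U.unop (var u c))
    rw [evalU_var, evalU_var, rmap_ub]

/-- The map from the presented sheaf. -/
def fromR : R f ⟶ f.invRing := ⟨sheafifyLift J (fromT f) f.invRing.property⟩

theorem fromR_η {U : C} (z : (T f).obj (op U)) :
    (fromR f).hom.app (op U) ((η f).app (op U) z) = (fromT f).app (op U) z :=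
  congrArg (fun q : T f ⟶ f.invRing.obj => q.app (op U) z) (toSheafify_sheafifyLift J (fromT f) f.invRing.property)

theorem toR_fromR : toR f ≫ fromR f = 𝟙 _ := by
  apply ((f.fn.sheafAdjunctionContinuous CommRingCat.{u} K J).homEquiv O_D _).injective
  rw [Adjunction.homEquiv_unit, Adjunction.homEquiv_unit]
  ext V c
  show (fromR f).hom.app _ ((toR f).hom.app (op (f.fn.obj V.unop))
    (((f.fn.sheafAdjunctionContinuous CommRingCat.{u} K J).unit.app O_D).hom.app V c)) =
    ((f.fn.sheafAdjunctionContinuous CommRingCat.{u} K J).unit.app O_D).hom.app V c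
  have hu : ub (𝟙 (f.fn.obj V.unop)) c =
      ((f.fn.sheafAdjunctionContinuous CommRingCat.{u} K J).unit.app O_D).hom.app V c := by
    show rmap f.invRing (𝟙 _) _ = _
    simp [rmap]
    rfl
  rw [← hu, toR_ub, fromR_η]
  exact evalU_var f _ c

theorem fromR_toR_apply {U : C} (x : f.invRing.obj.obj (op U)) :
    (fromR f).hom.app (op U) ((toR f).hom.app (op U) x) = x :=
  congrArg (fun q : f.invRing ⟶ f.invRing => q.hom.app (op U) x) (toR_fromR f)

end Groth.Agent.InvRing16
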